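import Groth.Agent.Dix.K378.PicRestr
import Groth.Agent.Dix.K281.ClsPull
import Groth.Agent.Dix.K281.ClosedPush
import Groth.Agent.CurvesA.H1GmPicSurj
import Groth.Statements.S19260

/-!
# From multiplication by `l` on the cohomology of `ker (G_m → i_* G_m)` to the Lefschetz isomorphism
-/

set_option autoImplicit false
universe u v w
open CategoryTheory CategoryTheory.Limits CategoryTheory.Abelian AlgebraicGeometry Opposite

namespace K378.NodeC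

open Groth.Agent Groth.Agent.CurvesA.H1GmPic

section Chase

variable {C : Type*} [Category C] [Abelian C] [HasExt.{w} C] (Z : C)

theorem nsmul_comp_mk₀ {F G : C} (g : F ⟶ G) (n : ℕ) (m : ℕ) (x : Ext Z F n) :
    (m • x).comp (Ext.mk₀ g) (add_zero n) = m • x.comp (Ext.mk₀ g) (add_zero n) :=
  map_nsmul (AddMonoidHom.mk' (fun e : Ext Z F n => e.comp (Ext.mk₀ g) (add_zero n))
    (fun _ _ => Ext.add_comp _ _ _ _)) m x

theorem pow_nsmul_injective {A : Type*} [AddCommGroup A] {l : ℕ} (h : Function.Injective (fun x : A => l • x))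
    (e : ℕ) (x : A) (hx : l ^ e • x = 0) : x = 0 := by
  induction e with
  | zero => simpa using hx
  | succ e ih =>
    refine ih (h ?_)
    change l • (l ^ e • x) = l • (0 : A)
    rw [smul_zero, ← mul_smul, ← pow_succ', hx]

theorem pow_nsmul_surjective {A : Type*} [AddCommGroup A] {l : ℕ} (h : Function.Surjective (fun x : A => l • x))
    (e : ℕ) (x : A) : ∃ y, l ^ e • y = x := by
  induction e generalizing x with
  | zero => exact ⟨x, by simp⟩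
  | succ e ih =>
    obtain ⟨y, hy⟩ := h x
    obtain ⟨z, hz⟩ := ih y
    refine ⟨z, ?_⟩
    rw [pow_succ', mul_smul, hz]
    exact hy

theorem chase {S : ShortComplex C} (hS : S.ShortExact) (l n e : ℕ)
    (h1 : ∀ z : Ext Z S.X₃ n, ∃ x : Ext Z S.X₂ n, x.comp (Ext.mk₀ S.g) (add_zero n) = z)
    (h2 : Function.Bijective (fun x : Ext Z S.X₁ (n + 1) => l • x))
    (h3 : Function.Injective (fun x : Ext Z S.X₁ (n + 1 + 1) => l • x)) :
    (∀ ξ : Ext Z S.X₂ (n + 1), l ^ e • ξ = 0 → ξ.comp (Ext.mk₀ S.g) (add_zero (n + 1)) = 0 → ξ = 0) ∧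
    (∀ z : Ext Z S.X₃ (n + 1), l ^ e • z = 0 → ∃ ξ : Ext Z S.X₂ (n + 1), l ^ e • ξ = 0 ∧
      ξ.comp (Ext.mk₀ S.g) (add_zero (n + 1)) = z) := by
  have hinj : ∀ g : Ext Z S.X₁ (n + 1), g.comp (Ext.mk₀ S.f) (add_zero (n + 1)) = 0 → g = 0 := by
    intro g hg
    obtain ⟨z, hz⟩ := Ext.covariant_sequence_exact₁ Z hS g hg rfl
    obtain ⟨x, hx⟩ := h1 z
    have h5 : (Ext.mk₀ S.g).comp hS.extClass (zero_add 1) = 0 := hS.comp_extClass
    rw [← hz, ← hx, Ext.comp_assoc_of_second_deg_zero, h5, Ext.comp_zero]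
  constructor
  · intro ξ hξ hg
    obtain ⟨g, hg'⟩ := Ext.covariant_sequence_exact₂ Z hS ξ hg
    have h4 : l ^ e • g = 0 := hinj _ (by rw [nsmul_comp_mk₀, hg', hξ])
    rw [← hg', pow_nsmul_injective h2.1 e g h4, Ext.zero_comp]
  · intro z hz
    have h4 : l ^ e • (z.comp hS.extClass rfl) = 0 := by
      have := map_nsmul (AddMonoidHom.mk' (fun t : Ext Z S.X₃ (n + 1) => t.comp hS.extClass (rfl : n + 1 + 1 = n + 1 + 1))
        (fun _ _ => Ext.add_comp _ _ _ _)) (l ^ e) z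
      rw [hz, map_zero] at this
      exact this.symm
    obtain ⟨ξ, hξ⟩ := Ext.covariant_sequence_exact₃ Z hS z rfl (pow_nsmul_injective h3 e _ h4)
    have h5 : (l ^ e • ξ).comp (Ext.mk₀ S.g) (add_zero (n + 1)) = 0 := by
      rw [nsmul_comp_mk₀, hξ, hz]
    obtain ⟨g, hg⟩ := Ext.covariant_sequence_exact₂ Z hS _ h5
    obtain ⟨g', hg'⟩ := pow_nsmul_surjective h2.2 e g
    refine ⟨ξ - g'.comp (Ext.mk₀ S.f) (add_zero (n + 1)), ?_, ?_⟩
    · rw [smul_sub, ← nsmul_comp_mk₀, hg', hg, sub_self]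
    · have h6 : (g'.comp (Ext.mk₀ S.f) (add_zero (n + 1))).comp (Ext.mk₀ S.g) (add_zero (n + 1)) = 0 := by
        rw [Ext.comp_assoc_of_second_deg_zero, Ext.mk₀_comp_mk₀, S.zero, Ext.mk₀_zero, Ext.comp_zero]
      rw [sub_eq_add_neg, Ext.add_comp, Ext.neg_comp, h6, neg_zero, add_zero, hξ]

end Chase

/-- The node C of S19260 (also used for S19259): multiplication by `l` bijective on `H^2` and injective on `H^3` of
`ker (G_m → i_* G_m)` gives the Lefschetz isomorphism on `l`-primary Brauer classes. -/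
theorem of_pic_surj {X : Scheme.{u}} (𝓘 : X.IdealSheafData) [PreservesFiniteLimits (EtCoh.pull 𝓘.subschemeι)]
    (hpic : ∀ M : (𝓘.subscheme).Modules, PicF.IsInvertible M → ∃ M' : X.Modules, PicF.IsInvertible M' ∧
      Nonempty ((Scheme.Modules.pullback 𝓘.subschemeι).obj M' ≅ M))
    (l : ℕ)
    (h2 : Function.Bijective (fun x : EtCoh.H X (kernel (EtLim.GmPush 𝓘.subschemeι)) 2 => l • x))
    (h3 : Function.Injective (fun x : EtCoh.H X (kernel (EtLim.GmPush 𝓘.subschemeι)) 3 => l • x)) :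
    (∀ ξ : Dix.BrCoh X, (∃ e : ℕ, l ^ e • ξ = 0) → EtLim.HGmPull 𝓘.subschemeι 2 ξ = 0 → ξ = 0) ∧
    (∀ η : Dix.BrCoh 𝓘.subscheme, (∃ e : ℕ, l ^ e • η = 0) →
      ∃ ξ : Dix.BrCoh X, (∃ e : ℕ, l ^ e • ξ = 0) ∧ EtLim.HGmPull 𝓘.subschemeι 2 ξ = η) := by
  have hepi : Epi (EtLim.GmPush 𝓘.subschemeι) := K281.ClosedGm.epi_gmPush 𝓘.subschemeι
  have hS : (ShortComplex.mk (kernel.ι (EtLim.GmPush 𝓘.subschemeι)) (EtLim.GmPush 𝓘.subschemeι)
      (kernel.condition _)).ShortExact :=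
    { exact := ShortComplex.exact_of_f_is_kernel _ (kernelIsKernel _) }
  have hbij : ∀ n, Function.Bijective (EtLim.HofPush 𝓘.subschemeι (EtCoh.Gm 𝓘.subscheme) n) := fun n =>
    K281.ClosedPush.HofPush_bijective 𝓘.subschemeι (EtCoh.Gm 𝓘.subscheme) n
  have h1 : ∀ z : Ext (EtCoh.const X ℤ) ((EtCoh.push 𝓘.subschemeι).obj (EtCoh.Gm 𝓘.subscheme)) 1,
      ∃ x : Ext (EtCoh.const X ℤ) (EtCoh.Gm X) 1,
        x.comp (Ext.mk₀ (EtLim.GmPush 𝓘.subschemeι)) (add_zero 1) = z := by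
    intro z
    obtain ⟨M, hM, hz⟩ := exists_clsL_eq (EtLim.HofPush 𝓘.subschemeι (EtCoh.Gm 𝓘.subscheme) 1 z)
    obtain ⟨M', hM', ⟨e⟩⟩ := hpic M hM
    have hpb : PicF.IsInvertible ((Scheme.Modules.pullback 𝓘.subschemeι).obj M') :=
      Fdesc.LocGen.isInvertible_pullback _ hM'
    have h4 := K281.ClsPull.HGmPull_clsL 𝓘.subschemeι M' hM' hpb
    have h5 : EtLim.HofPush 𝓘.subschemeι (EtCoh.Gm 𝓘.subscheme) 1
        (Ext.comp (clsL M' hM') (Ext.mk₀ (EtLim.GmPush 𝓘.subschemeι)) (add_zero 1)) =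
        EtLim.HofPush 𝓘.subschemeι (EtCoh.Gm 𝓘.subscheme) 1 z := by
      refine Eq.trans ?_ ((h4.trans (clsL_congr hpb hM e)).trans hz)
      rfl
    exact ⟨clsL M' hM', (hbij 1).1 h5⟩
  constructor
  · rintro ξ ⟨e, he⟩ h0
    refine (chase (EtCoh.const X ℤ) hS l 1 e h1 h2 h3).1 ξ he ?_
    refine (hbij 2).1 ?_
    rw [map_zero]
    exact h0
  · rintro η ⟨e, he⟩
    obtain ⟨z, rfl⟩ := (hbij 2).2 η
    have hz : l ^ e • z = 0 := (hbij 2).1 (by rw [map_nsmul, map_zero]; exact he)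
    obtain ⟨ξ, hξ, hξ'⟩ := (chase (EtCoh.const X ℤ) hS l 1 e h1 h2 h3).2 z hz
    refine ⟨ξ, ⟨e, hξ⟩, ?_⟩
    change EtLim.HofPush 𝓘.subschemeι (EtCoh.Gm 𝓘.subscheme) 2
        (Ext.comp ξ (Ext.mk₀ (EtLim.GmPush 𝓘.subschemeι)) (add_zero 2)) = _
    exact congrArg _ hξ'

/-- Node C of S19260, in the form of job 231. -/
theorem nodeC (k : Type u) [Field k] (X : Scheme.{u}) (f : X ⟶ Spec (CommRingCat.of k)) [IsProper f] (N : ℕ)
    (hN : 4 ≤ N) [SmoothOfRelativeDimension N f]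
    (𝓘 : X.IdealSheafData) (L : X.Modules) (hL : ClSub.IsInverseOf L (ClSub.idealMod 𝓘)) (hamp : CohB1.IsAmple L)
    (hsa : ∀ (q : ℕ) (Ω : X.Modules), ExtPow.IsExtPow q (Omega.sheaf (specULiftZIsTerminal.from X)) Ω →
      ∀ n i : ℕ, 1 ≤ n → i + q + 1 ≤ N →
        Subsingleton (Coh.HH X (CohB1.tensorMod (CohB1.tensorPow (ClSub.idealMod 𝓘) n) Ω) i))
    [PreservesFiniteLimits (EtCoh.pull 𝓘.subschemeι)]
    (l : ℕ)
    (h2 : Function.Bijective (fun x : EtCoh.H X (kernel (EtLim.GmPush 𝓘.subschemeι)) 2 => l • x))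
    (h3 : Function.Injective (fun x : EtCoh.H X (kernel (EtLim.GmPush 𝓘.subschemeι)) 3 => l • x)) :
    (∀ ξ : Dix.BrCoh X, (∃ e : ℕ, l ^ e • ξ = 0) → EtLim.HGmPull 𝓘.subschemeι 2 ξ = 0 → ξ = 0) ∧
    (∀ η : Dix.BrCoh 𝓘.subscheme, (∃ e : ℕ, l ^ e • η = 0) →
      ∃ ξ : Dix.BrCoh X, (∃ e : ℕ, l ^ e • ξ = 0) ∧ EtLim.HGmPull 𝓘.subschemeι 2 ξ = η) :=
  of_pic_surj 𝓘 (fun M hM => PicRestr.pic_surj k X f N hN 𝓘 L hL hamp hsa M hM) l h2 h3

end K378.NodeC
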