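import Groth.Agent.Dix.K876.NodeA
import Groth.Agent.CycCov.K419.PicStep
import Groth.Agent.VarietyB.RestrSeq
import Groth.Agent.Fga.TwistCoh
import Groth.Agent.Flat2F.HHSeq

/-!
# Restriction of Picard groups to a sufficiently ample divisor on a smooth scheme of dimension `≥ 4`
-/

set_option autoImplicit false
universe u
open CategoryTheory CategoryTheory.Limits AlgebraicGeometry Opposite

namespace K378.PicRestr

open Groth.Agent

/-- `H^i(X, I^m ⊗ O/I) = 0` for `i + 2 ≤ N` if `H^i(X, I^n) = 0` for `n ≥ 1`, `i + 1 ≤ N`. -/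
theorem quot_van {X : Scheme.{u}} (𝓘 : X.IdealSheafData) (hI : PicF.IsInvertible (ClSub.idealMod 𝓘)) (N : ℕ)
    (h : ∀ n i : ℕ, 1 ≤ n → i + 1 ≤ N → Subsingleton (Coh.HH X (CohB1.tensorPow (ClSub.idealMod 𝓘) n) i))
    (m : ℕ) (hm : 1 ≤ m) (i : ℕ) (hi : i + 2 ≤ N) :
    Subsingleton (Coh.HH X ((DCoh.tensorBi.obj (CohB1.tensorPow (ClSub.idealMod 𝓘) m)).obj (ClSub.quotMod 𝓘)) i) := by
  have hP : PicF.IsInvertible (CohB1.tensorPow (ClSub.idealMod 𝓘) m) := Fdesc.LocGen.isInvertible_tensorPow hI m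
  have hS := Fga.TwistCoh.shortExact_tensorBi hP _ (VarietyB.RestrSeq.idealSeq_shortExact 𝓘)
  refine Flat2F.HHSeq.subsingleton_HH_right hS i ?_ ?_
  · exact Flat2F.HHSeq.subsingleton_HH_of_iso (Ega2.Tens.runit (CohB1.tensorPow (ClSub.idealMod 𝓘) m)).symm i
      (h m i hm (by omega))
  · exact h (m + 1) (i + 1) (by omega) (by omega)

/-- Every invertible module on a sufficiently ample divisor of a smooth proper scheme of relative dimension `≥ 4`
(only `H^1, H^2, H^3` of the negative powers matter) is the restriction of an invertible module. -/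
theorem pic_surj (k : Type u) [Field k] (X : Scheme.{u}) (f : X ⟶ Spec (CommRingCat.of k)) [IsProper f] (N : ℕ)
    (hN : 4 ≤ N) [SmoothOfRelativeDimension N f]
    (𝓘 : X.IdealSheafData) (L : X.Modules) (hL : ClSub.IsInverseOf L (ClSub.idealMod 𝓘)) (hamp : CohB1.IsAmple L)
    (hsa : ∀ (q : ℕ) (Ω : X.Modules), ExtPow.IsExtPow q (Omega.sheaf (specULiftZIsTerminal.from X)) Ω →
      ∀ n i : ℕ, 1 ≤ n → i + q + 1 ≤ N →
        Subsingleton (Coh.HH X (CohB1.tensorMod (CohB1.tensorPow (ClSub.idealMod 𝓘) n) Ω) i))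
    (M : (𝓘.subscheme).Modules) (hM : PicF.IsInvertible M) :
    ∃ M' : X.Modules, PicF.IsInvertible M' ∧
      Nonempty ((Scheme.Modules.pullback 𝓘.subschemeι).obj M' ≅ M) := by
  let _ : X.Over (Spec (CommRingCat.of k)) := ⟨f⟩
  have hp : IsProper (X ↘ Spec (CommRingCat.of k)) := inferInstanceAs (IsProper f)
  have hI : PicF.IsInvertible (ClSub.idealMod 𝓘) := Fga.IntAdd.isInvertible_of_tensor hL.some
  have hs : Smooth f := SmoothOfRelativeDimension.smooth N f
  have hln : IsLocallyNoetherian X := LocallyOfFiniteType.isLocallyNoetherian f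
  have hvan : ∀ n i : ℕ, 1 ≤ n → i + 1 ≤ N →
      Subsingleton (Coh.HH X (CohB1.tensorPow (ClSub.idealMod 𝓘) n) i) := fun n i hn hi =>
    Flat2F.HHSeq.subsingleton_HH_of_iso (Ega2.Tens.runit (CohB1.tensorPow (ClSub.idealMod 𝓘) n)) i
      (hsa 0 _ (Sga67.TensorOps.isExtPow_zero _) n i hn (by omega))
  refine (S2949.result k X 𝓘 L hL hamp (fun x hx => ?_) (fun m hm i hi => ?_) (fun x hx hxs => ?_)).2 M hM
  · apply Sga5.SmoothField.two_le_depth f
    rw [Lefpen.H705.ClosedPoint.ringKrullDim_stalk f N x hx]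
    exact_mod_cast (by omega : 2 ≤ N)
  · exact quot_van 𝓘 hI N hvan m hm i (by omega)
  · have := Sga5.SmoothField.isRegularLocalRing_stalk f x
    exact S9549.result (X.presheaf.stalk x)

end K378.PicRestr
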